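import Cfsg.Agent.Perm.MultiRestrict
import Cfsg.Agent.Perm.Witt

/-!
# Four-fold transitive groups with a Frobenius four-point stabiliser: definitions
-/

set_option autoImplicit false

namespace Cfsg.Lib.Fr4

open MulAction Subgroup

variable {G Ω : Type*} [Group G] [MulAction G Ω]

/-- Fixed points of an element. -/
def Fx (Ω : Type*) [MulAction G Ω] (g : G) : Set Ω := {x | g • x = x}

/-- Fixed points of a subgroup. -/
def Fs (Ω : Type*) [MulAction G Ω] (W : Subgroup G) : Set Ω := {x | ∀ w ∈ W, w • x = x}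

/-- Pointwise stabiliser of a set. -/
abbrev Dx (G : Type*) {Ω : Type*} [Group G] [MulAction G Ω] (s : Set Ω) : Subgroup G :=
  fixingSubgroup G s

/-- `g` is an `r`-element. -/
def PE (r : ℕ) (g : G) : Prop := ∃ j : ℕ, g ^ r ^ j = 1

/-- The subgroup generated by the `r`-elements fixing `s` pointwise. -/
def Pz (G : Type*) {Ω : Type*} [Group G] [MulAction G Ω] (r : ℕ) (s : Set Ω) : Subgroup G :=
  closure {g | g ∈ Dx G s ∧ PE r g}

/-- The elements of `T` of order at most two that are central in `T`. -/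
def Om (T : Subgroup G) : Subgroup G where
  carrier := {a | a ∈ T ∧ a * a = 1 ∧ ∀ t ∈ T, t * a = a * t}
  one_mem' := ⟨T.one_mem, one_mul 1, fun t _ => by rw [mul_one, one_mul]⟩
  mul_mem' := by
    rintro a b ⟨a1, a2, a3⟩ ⟨b1, b2, b3⟩
    refine ⟨T.mul_mem a1 b1, ?_, fun t ht => by rw [← mul_assoc, a3 t ht, mul_assoc, b3 t ht, mul_assoc]⟩
    rw [mul_assoc, ← mul_assoc b, a3 b b1, mul_assoc, b2, mul_one, a2]
  inv_mem' := by
    rintro a ⟨a1, a2, a3⟩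
    rw [inv_eq_of_mul_eq_one_right a2]
    exact ⟨a1, a2, a3⟩

@[simp] theorem mem_Fx {g : G} {x : Ω} : x ∈ Fx Ω g ↔ g • x = x := Iff.rfl

@[simp] theorem mem_Fs {W : Subgroup G} {x : Ω} : x ∈ Fs Ω W ↔ ∀ w ∈ W, w • x = x := Iff.rfl

theorem mem_Dx {s : Set Ω} {g : G} : g ∈ Dx G s ↔ ∀ x ∈ s, g • x = x := mem_fixingSubgroup_iff _

theorem mem_Om {T : Subgroup G} {a : G} :
    a ∈ Om T ↔ a ∈ T ∧ a * a = 1 ∧ ∀ t ∈ T, t * a = a * t := Iff.rfl

/-- Four-fold transitive, every four-point stabiliser a Frobenius group with complement of order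
`m`. -/
structure Cx (G Ω : Type*) [Group G] [MulAction G Ω] (m : ℕ) : Prop where
  four : 4 ≤ Nat.card Ω
  tr : IsMultiplyPretransitive G Ω 4
  faith : ∀ g : G, (∀ x : Ω, g • x = x) → g = 1
  one_lt : 1 < m
  ker : ∀ s : Set Ω, s.ncard = 4 → ∃ K : Subgroup G, K ≤ Dx G s ∧ K ≠ ⊥ ∧ Group.IsNilpotent K ∧
    Nat.card (Dx G s) = Nat.card K * m ∧ (Nat.card K).Coprime m ∧
    (∀ g ∈ Dx G s, g ∈ K ↔ (orderOf g).Coprime m) ∧
    ∀ g ∈ Dx G s, g ∉ K → orderOf g ∣ m ∧ ∀ k ∈ K, g * k = k * g → k = 1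

/-- The case of a complement of even order, in the form used. -/
structure CA (G Ω : Type*) [Group G] [MulAction G Ω] : Prop where
  four : 4 ≤ Nat.card Ω
  tr : IsMultiplyPretransitive G Ω 4
  faith : ∀ g : G, (∀ x : Ω, g • x = x) → g = 1
  inv : ∀ s : Set Ω, s.ncard = 4 → ∀ u ∈ Dx G s, ∀ v ∈ Dx G s, u ≠ 1 → v ≠ 1 → u * u = 1 →
    v * v = 1 → u * v = v * u → u = v
  cen : ∀ s : Set Ω, s.ncard = 4 → ∀ z ∈ Dx G s, (∀ d ∈ Dx G s, z * d = d * z) → z = 1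
  six : ∀ s : Set Ω, s.ncard = 4 → 6 ≤ Nat.card (Dx G s)
  odd : ∀ s : Set Ω, s.ncard = 4 → ∃ p : ℕ, p.Prime ∧ p ≠ 2 ∧ p ∣ Nat.card (Dx G s)

/-- The case of a complement of odd order and a kernel of even order; `k` is the block size. -/
structure CB (G Ω : Type*) [Group G] [MulAction G Ω] (m k : ℕ) : Prop extends Cx G Ω m where
  odd : Odd m
  ne : ∀ s : Set Ω, s.ncard = 4 → Pz G 2 s ≠ ⊥
  blk : ∀ s : Set Ω, s.ncard = 4 → (Fs Ω (Pz G 2 s)).ncard = k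

/-- The local configuration: the `2`-elements fixing four points form a non-trivial group which
fixes exactly `k` points and is semiregular on the others. -/
structure SR (X Φ : Type*) [Group X] [MulAction X Φ] (k : ℕ) : Prop where
  mul : ∀ s : Set Φ, 4 ≤ s.ncard → ∀ a ∈ Dx X s, ∀ b ∈ Dx X s, PE 2 a → PE 2 b → PE 2 (a * b)
  ex : ∀ s : Set Φ, s.ncard = 4 → ∃ a ∈ Dx X s, a ≠ 1 ∧ PE 2 a
  fix : ∀ a : X, a ≠ 1 → PE 2 a → 4 ≤ (Fx Φ a).ncard → (Fx Φ a).ncard = k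
  same : ∀ a b : X, a ≠ 1 → b ≠ 1 → PE 2 a → PE 2 b → 4 ≤ (Fx Φ a ∩ Fx Φ b).ncard →
    Fx Φ a = Fx Φ b
  lt : k < Nat.card Φ

/-- A block of the local configuration. -/
def Blk (X : Type*) {Φ : Type*} [Group X] [MulAction X Φ] (B : Set Φ) : Prop :=
  4 ≤ B.ncard ∧ ∃ a : X, a ≠ 1 ∧ PE 2 a ∧ Fx Φ a = B

/-- The configuration on eleven points. -/
structure E11 (C Γ : Type*) [Group C] [MulAction C Γ] : Prop where
  card : Nat.card Γ = 11
  dvd : Nat.card C ∣ 7920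
  nine : ¬ 9 ∣ Nat.card C
  four : ∀ g : C, 4 ≤ (Fx Γ g).ncard → g = 1
  mul : ∀ (u : Γ) (a b : C), a • u = u → b • u = u → PE 2 a → PE 2 b → PE 2 (a * b)
  three : ∀ u : Γ, ∃ h : C, orderOf h = 3 ∧ h • u = u
  fpf : ∀ (u : Γ) (h b : C), orderOf h = 3 → h • u = u → b • u = u → PE 2 b → h * b = b * h → b = 1

end Cfsg.Lib.Fr4
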