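import Cfsg.Agent.Fr4.Defs

/-!
# Four-fold transitive groups with a Frobenius four-point stabiliser: elementary tools
-/

set_option autoImplicit false

namespace Cfsg.Lib.Fr4

open MulAction Subgroup Cfsg.Lib.Perm Cfsg.Lib.Trans

variable {G Ω : Type*} [Group G] [MulAction G Ω] {r : ℕ}

theorem PE.one : PE r (1 : G) := ⟨0, one_pow _⟩

theorem PE.pow {g : G} (h : PE r g) (n : ℕ) : PE r (g ^ n) := by
  obtain ⟨j, hj⟩ := h
  exact ⟨j, by rw [← pow_mul, mul_comm, pow_mul, hj, one_pow]⟩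

theorem PE.inv {g : G} (h : PE r g) : PE r g⁻¹ := by
  obtain ⟨j, hj⟩ := h
  exact ⟨j, by rw [inv_pow, hj, inv_one]⟩

theorem PE.conj {g : G} (h : PE r g) (k : G) : PE r (k * g * k⁻¹) := by
  obtain ⟨j, hj⟩ := h
  exact ⟨j, by rw [conj_pow, hj, mul_one, mul_inv_cancel]⟩

theorem PE.map {H : Type*} [Group H] (f : G →* H) {g : G} (h : PE r g) : PE r (f g) := by
  obtain ⟨j, hj⟩ := h
  exact ⟨j, by rw [← map_pow, hj, map_one]⟩

theorem PE.of_pow_eq_one {g : G} (h : g ^ r = 1) : PE r g := ⟨1, by rw [pow_one, h]⟩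

theorem PE.of_sq {g : G} (h : g * g = 1) : PE 2 g := PE.of_pow_eq_one (by rw [pow_two, h])

theorem PE.of_orderOf {g : G} (h : orderOf g = r) : PE r g :=
  PE.of_pow_eq_one (h ▸ pow_orderOf_eq_one g)

theorem PE.of_mem {P : Subgroup G} (hP : IsPGroup r P) {g : G} (hg : g ∈ P) : PE r g := by
  obtain ⟨j, hj⟩ := hP ⟨g, hg⟩
  exact ⟨j, congrArg Subtype.val hj⟩

theorem isPGroup_of_PE {P : Subgroup G} (h : ∀ g ∈ P, PE r g) : IsPGroup r P := fun g => by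
  obtain ⟨j, hj⟩ := h g g.2
  exact ⟨j, Subtype.ext hj⟩

theorem PE.isPGroup {g : G} (h : PE r g) : IsPGroup r (zpowers g) := isPGroup_of_PE fun x hx => by
  obtain ⟨n, rfl⟩ := mem_zpowers_iff.1 hx
  obtain ⟨j, hj⟩ := h
  exact ⟨j, by rw [← zpow_natCast, ← zpow_mul, mul_comm, zpow_mul, zpow_natCast, hj, one_zpow]⟩

theorem PE.mul_of_comm {g k : G} (hg : PE r g) (hk : PE r k) (hc : g * k = k * g) :
    PE r (g * k) := by
  obtain ⟨i, hi⟩ := hg
  obtain ⟨j, hj⟩ := hk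
  refine ⟨i + j, ?_⟩
  rw [Commute.mul_pow hc, pow_add, pow_mul, hi, one_pow, mul_comm (r ^ i), pow_mul, hj, one_pow,
    one_mul]

theorem PE.orderOf_eq (hr : r.Prime) {g : G} (h : PE r g) : ∃ j, orderOf g = r ^ j := by
  obtain ⟨j, hj⟩ := h
  obtain ⟨i, -, hi⟩ := (Nat.dvd_prime_pow hr).1 (orderOf_dvd_of_pow_eq_one hj)
  exact ⟨i, hi⟩

theorem PE.coprime (hr : r.Prime) {g : G} (h : PE r g) {m : ℕ} (hm : ¬ r ∣ m) :
    (orderOf g).Coprime m := by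
  obtain ⟨j, hj⟩ := h.orderOf_eq hr
  rw [hj]
  exact ((Nat.Prime.coprime_iff_not_dvd hr).2 hm).pow_left j

theorem PE.dvd_orderOf (hr : r.Prime) {g : G} (h : PE r g) (h1 : g ≠ 1) : r ∣ orderOf g := by
  obtain ⟨j, hj⟩ := h.orderOf_eq hr
  rcases j with _ | j
  · exact absurd (orderOf_eq_one_iff.1 (by simpa using hj)) h1
  · rw [hj]; exact dvd_pow_self r (by omega)

theorem PE.eq_one_of_coprime (hr : r.Prime) {g : G} (h : PE r g) (hc : ¬ r ∣ orderOf g) : g = 1 :=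
  by_contra fun h1 => hc (h.dvd_orderOf hr h1)

theorem PE.not_coprime (hr : r.Prime) {g : G} (h : PE r g) (h1 : g ≠ 1) {m : ℕ} (hm : r ∣ m) :
    ¬ (orderOf g).Coprime m := fun hc =>
  hr.one_lt.ne' (Nat.eq_one_of_dvd_coprimes hc (h.dvd_orderOf hr h1) hm)

/-- A non-trivial `r`-element has a power of order `r`. -/
theorem PE.exists_pow (hr : r.Prime) {g : G} (h : PE r g) (h1 : g ≠ 1) :
    ∃ j, orderOf (g ^ j) = r := by
  obtain ⟨j, hj⟩ := h.orderOf_eq hr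
  have hd := h.dvd_orderOf hr h1
  have h0 : orderOf g ≠ 0 := by rw [hj]; exact pow_ne_zero _ hr.ne_zero
  exact ⟨_, orderOf_pow_orderOf_div h0 hd⟩

/-- The `r`-part of an element. -/
theorem exists_part [Finite G] (hr : r.Prime) (g : G) :
    ∃ j, PE r (g ^ j) ∧ ¬ r ∣ j ∧ j ∣ orderOf g := by
  obtain ⟨a, m, hm, ham⟩ := Nat.exists_eq_pow_mul_and_not_dvd (orderOf_pos g).ne' r hr.ne_one
  exact ⟨m, ⟨a, by rw [← pow_mul, mul_comm, ← ham, pow_orderOf_eq_one]⟩, hm, ham ▸ dvd_mul_left _ _⟩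

/-- An element is the product of its `r`-part and its `r'`-part. -/
theorem exists_split [Finite G] (hr : r.Prime) (g : G) :
    ∃ i j : ℕ, PE r (g ^ i) ∧ ¬ r ∣ orderOf (g ^ j) ∧ g = g ^ i * g ^ j := by
  obtain ⟨a, m, hm, ham⟩ := Nat.exists_eq_pow_mul_and_not_dvd (orderOf_pos g).ne' r hr.ne_one
  have hc : (r ^ a).Coprime m := ((Nat.Prime.coprime_iff_not_dvd hr).2 hm).pow_left a
  have hm0 : 0 < m := Nat.pos_of_ne_zero (by rintro rfl; simp at hm)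
  obtain ⟨u, hu1, hu2⟩ := Nat.chineseRemainder hc 1 0
  obtain ⟨v, hv1, hv2⟩ := Nat.chineseRemainder hc 0 1
  obtain ⟨u', rfl⟩ := (Nat.modEq_zero_iff_dvd).1 hu2
  obtain ⟨v', rfl⟩ := (Nat.modEq_zero_iff_dvd).1 hv1
  refine ⟨m * u', r ^ a * v', ⟨a, ?_⟩, fun hd => hm (hd.trans ?_), ?_⟩
  · rw [← pow_mul, mul_right_comm, mul_comm m, ← ham, pow_mul, pow_orderOf_eq_one, one_pow]
  · refine orderOf_dvd_of_pow_eq_one ?_
    rw [← pow_mul, mul_right_comm, ← ham, pow_mul, pow_orderOf_eq_one, one_pow]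
  · rw [← pow_add]
    conv_lhs => rw [← pow_one g]
    rw [pow_eq_pow_iff_modEq, ham]
    refine (Nat.modEq_and_modEq_iff_modEq_mul hc).1 ⟨?_, ?_⟩
    · simpa using (hu1.add hv1).symm
    · simpa using (hu2.add hv2).symm

theorem pow_smul_mem {g : G} {S : Set Ω} (hS : ∀ x ∈ S, g • x ∈ S) (n : ℕ) :
    ∀ x ∈ S, g ^ n • x ∈ S := by
  induction n with
  | zero => intro x hx; rwa [pow_zero, one_smul]
  | succ n ih => intro x hx; rw [pow_succ, mul_smul]; exact ih _ (hS x hx)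

theorem pow_smul_eq {g : G} {x : Ω} (h : g • x = x) (n : ℕ) : g ^ n • x = x :=
  pow_smul_mem (S := {x}) (fun _ hy => by rw [hy]; exact h) n x rfl

theorem zpowers_smul_mem [Finite G] {g : G} {S : Set Ω} (hS : ∀ x ∈ S, g • x ∈ S) :
    ∀ k ∈ zpowers g, ∀ x ∈ S, k • x ∈ S := by
  intro k hk
  obtain ⟨n, rfl⟩ := (mem_powers_iff_mem_zpowers.2 hk)
  exact pow_smul_mem hS n

theorem inv_smul_mem [Finite G] {g : G} {S : Set Ω} (hS : ∀ x ∈ S, g • x ∈ S) :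
    ∀ x ∈ S, g⁻¹ • x ∈ S := zpowers_smul_mem hS _ (inv_mem (mem_zpowers g))

theorem Fs_zpowers (g : G) : Fs Ω (zpowers g) = Fx Ω g := by
  ext x
  exact ⟨fun h => h g (mem_zpowers g), fun h k hk =>
    (zpowers_le (H := stabilizer G x)).2 h hk⟩

theorem PE.ncard_modEq [Finite G] [Finite Ω] (hr : r.Prime) {g : G} (h : PE r g) {S : Set Ω}
    (hS : ∀ x ∈ S, g • x ∈ S) : S.ncard ≡ (S ∩ Fx Ω g).ncard [MOD r] := by
  have := ncard_modEq_ncard_fixed hr _ h.isPGroup S (Set.toFinite _) (zpowers_smul_mem hS)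
  rwa [show {x ∈ S | ∀ k ∈ zpowers g, k • x = x} = S ∩ Fx Ω g by rw [← Fs_zpowers]; rfl] at this

theorem PE.card_modEq [Finite G] [Finite Ω] (hr : r.Prime) {g : G} (h : PE r g) :
    Nat.card Ω ≡ (Fx Ω g).ncard [MOD r] := by
  have := h.ncard_modEq hr (S := (Set.univ : Set Ω)) fun _ _ => trivial
  rwa [Set.ncard_univ, Set.univ_inter] at this

theorem smul_mem_Fx {g k : G} (hc : k * g = g * k) {x : Ω} (hx : x ∈ Fx Ω g) : k • x ∈ Fx Ω g := by
  rw [mem_Fx, ← mul_smul, ← hc, mul_smul, hx]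

theorem conj_smul_smul (k g : G) (x : Ω) : (k * g * k⁻¹) • k • x = k • g • x := by
  rw [mul_smul, mul_smul, inv_smul_smul]

theorem Fx_conj (k g : G) : Fx Ω (k * g * k⁻¹) = (k • ·) '' Fx Ω g := by
  ext x
  obtain ⟨y, rfl⟩ : ∃ y, k • y = x := ⟨k⁻¹ • x, smul_inv_smul _ _⟩
  rw [mem_Fx, conj_smul_smul, smul_left_cancel_iff, (MulAction.injective k).mem_set_image, mem_Fx]

theorem ncard_smul (k : G) (s : Set Ω) : ((k • ·) '' s).ncard = s.ncard :=
  Set.ncard_image_of_injective _ (MulAction.injective k)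

theorem ncard_Fx_conj (k g : G) : (Fx Ω (k * g * k⁻¹)).ncard = (Fx Ω g).ncard := by
  rw [Fx_conj, ncard_smul]

theorem cj_Dx (k : G) (s : Set Ω) : cj k (Dx G s) = Dx G ((k • ·) '' s) := by
  ext g
  rw [mem_cj, mem_Dx, mem_Dx, Set.forall_mem_image]
  refine forall_congr' fun x => forall_congr' fun _ => ?_
  rw [mul_smul, mul_smul, inv_smul_eq_iff]

theorem Fs_cj (k : G) (W : Subgroup G) : Fs Ω (cj k W) = (k • ·) '' Fs Ω W := by
  ext x
  obtain ⟨y, rfl⟩ : ∃ y, k • y = x := ⟨k⁻¹ • x, smul_inv_smul _ _⟩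
  rw [(MulAction.injective k).mem_set_image]
  refine ⟨fun h w hw => ?_, fun h w hw => ?_⟩
  · have := h _ (conj_mem_cj.2 hw)
    rwa [conj_smul_smul, smul_left_cancel_iff] at this
  · have := h _ (mem_cj.1 hw)
    rwa [mul_smul, mul_smul, inv_smul_eq_iff] at this

theorem conj_mem_Dx {k g : G} {s : Set Ω} (hg : g ∈ Dx G s) : k * g * k⁻¹ ∈ Dx G ((k • ·) '' s) :=
  cj_Dx k s ▸ conj_mem_cj.2 hg

theorem image_eq_of_mem [Finite Ω] {k : G} {s : Set Ω} (hk : ∀ x ∈ s, k • x ∈ s) :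
    (k • ·) '' s = s :=
  Set.eq_of_subset_of_ncard_le (by rintro _ ⟨x, hx, rfl⟩; exact hk x hx) (ncard_smul k s).ge

theorem conj_mem_Dx' [Finite Ω] {k g : G} {s : Set Ω} (hk : ∀ x ∈ s, k • x ∈ s)
    (hg : g ∈ Dx G s) : k * g * k⁻¹ ∈ Dx G s := by
  have := conj_mem_Dx (k := k) hg
  rwa [image_eq_of_mem hk] at this

theorem mem_normalizer_Dx [Finite Ω] {k : G} {s : Set Ω} (hk : ∀ x ∈ s, k • x ∈ s) :
    k ∈ normalizer (Dx G s : Set G) := by
  rw [← cj_eq_self_iff, cj_Dx, image_eq_of_mem hk]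

theorem Dx_anti {s t : Set Ω} (h : s ⊆ t) : Dx G t ≤ Dx G s := fun _ hg =>
  mem_Dx.2 fun x hx => mem_Dx.1 hg x (h hx)

theorem le_Dx_iff {s : Set Ω} {W : Subgroup G} : W ≤ Dx G s ↔ s ⊆ Fs Ω W :=
  ⟨fun h x hx _ hw => mem_Dx.1 (h hw) x hx, fun h w hw => mem_Dx.2 fun _ hx => h hx w hw⟩

theorem mem_Dx_iff {s : Set Ω} {g : G} : g ∈ Dx G s ↔ s ⊆ Fx Ω g := mem_Dx

theorem Pz_le (r : ℕ) (s : Set Ω) : Pz G r s ≤ Dx G s := (closure_le _).2 fun _ h => h.1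

theorem subset_Fs_Pz (r : ℕ) (s : Set Ω) : s ⊆ Fs Ω (Pz G r s) := le_Dx_iff.1 (Pz_le r s)

theorem mem_Pz_of {s : Set Ω} {g : G} (h1 : g ∈ Dx G s) (h2 : PE r g) : g ∈ Pz G r s :=
  subset_closure ⟨h1, h2⟩

theorem Pz_anti {s t : Set Ω} (h : s ⊆ t) : Pz G r t ≤ Pz G r s :=
  closure_mono fun _ hg => ⟨Dx_anti h hg.1, hg.2⟩

theorem cj_Pz (k : G) (s : Set Ω) : cj k (Pz G r s) = Pz G r ((k • ·) '' s) := by
  have key : ∀ (k : G) (s : Set Ω), cj k (Pz G r s) ≤ Pz G r ((k • ·) '' s) := fun k s =>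
    cj_le_iff_le_cj_inv.2 ((closure_le _).2 fun g hg =>
      mem_cj_inv.2 (mem_Pz_of (conj_mem_Dx hg.1) (hg.2.conj k)))
  refine le_antisymm (key k s) (cj_inv_le_iff_le_cj.1 ?_)
  have := key k⁻¹ ((k • ·) '' s)
  rwa [Set.image_image, show (fun x : Ω => k⁻¹ • k • x) = id from
    funext fun x => inv_smul_smul k x, Set.image_id] at this

theorem mem_normalizer_Pz [Finite Ω] {k : G} {s : Set Ω} (hk : ∀ x ∈ s, k • x ∈ s) :
    k ∈ normalizer (Pz G r s : Set G) := by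
  rw [← cj_eq_self_iff, cj_Pz, image_eq_of_mem hk]

theorem smul_mem_Fs {W : Subgroup G} {k : G} (hk : k ∈ normalizer (W : Set G)) {x : Ω}
    (hx : x ∈ Fs Ω W) : k • x ∈ Fs Ω W := smul_fixT_of_mem_normalizer hk hx

theorem mem_Pz_iff {s : Set Ω}
    (hmul : ∀ a ∈ Dx G s, ∀ b ∈ Dx G s, PE r a → PE r b → PE r (a * b)) {g : G} :
    g ∈ Pz G r s ↔ g ∈ Dx G s ∧ PE r g := by
  refine ⟨fun hg => ?_, fun h => mem_Pz_of h.1 h.2⟩
  induction hg using closure_induction with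
  | mem x hx => exact hx
  | one => exact ⟨one_mem _, PE.one⟩
  | mul x y _ _ hx hy => exact ⟨mul_mem hx.1 hy.1, hmul x hx.1 y hy.1 hx.2 hy.2⟩
  | inv x _ hx => exact ⟨inv_mem hx.1, hx.2.inv⟩

theorem ncard_four {a b c d : Ω} (h : [a, b, c, d].Nodup) : ({a, b, c, d} : Set Ω).ncard = 4 := by
  simp only [List.nodup_cons, List.mem_cons, List.not_mem_nil, not_or] at h
  rw [Set.ncard_eq_four]
  exact ⟨a, b, c, d, h.1.1, h.1.2.1, h.1.2.2.1, h.2.1.1, h.2.1.2.1, h.2.2.1.1, rfl⟩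

theorem ncard_three {a b c : Ω} (h : [a, b, c].Nodup) : ({a, b, c} : Set Ω).ncard = 3 := by
  simp only [List.nodup_cons, List.mem_cons, List.not_mem_nil, not_or] at h
  rw [Set.ncard_eq_three]
  exact ⟨a, b, c, h.1.1, h.1.2.1, h.2.1.1, rfl⟩

theorem exists_four {s : Set Ω} (hs : s.ncard = 4) :
    ∃ a b c d : Ω, [a, b, c, d].Nodup ∧ s = {a, b, c, d} := by
  obtain ⟨a, b, c, d, h1, h2, h3, h4, h5, h6, rfl⟩ := Set.ncard_eq_four.1 hs
  exact ⟨a, b, c, d, by simp [*], rfl⟩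

theorem exists_sub_four {s : Set Ω} (hs : 4 ≤ s.ncard) : ∃ U ⊆ s, U.ncard = 4 :=
  Set.exists_subset_card_eq hs

theorem exists_mem_notMem [Finite Ω] {s t : Set Ω} (h : s.ncard < t.ncard) : ∃ x ∈ t, x ∉ s :=
  Set.exists_mem_notMem_of_ncard_lt_ncard h

/-- A semiregular group is not larger than a set it stabilises. -/
theorem card_le_ncard [Finite Ω] (W : Subgroup G) {S : Set Ω} {x : Ω}
    (hS : ∀ w ∈ W, w • x ∈ S) (hx : ∀ w ∈ W, w • x = x → w = 1) : Nat.card W ≤ S.ncard := by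
  rw [← Nat.card_coe_set_eq]
  refine Nat.card_le_card_of_injective (fun w : W => (⟨(w : G) • x, hS w w.2⟩ : S)) fun a b e => ?_
  have e1 : (a : G) • x = (b : G) • x := congrArg Subtype.val e
  have := hx ((b : G)⁻¹ * a) (mul_mem (inv_mem b.2) a.2) (by rw [mul_smul, e1, inv_smul_smul])
  exact Subtype.ext (inv_mul_eq_one.1 this).symm

/-- An `r`-element acting on a coset of a subgroup of order prime to `r` has a fixed point. -/
theorem exists_fix_coset [Finite G] (hr : r.Prime) {g : G} (hg : PE r g) {Q : Subgroup G}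
    (hQ : ¬ r ∣ Nat.card Q) (hn : ∀ q ∈ Q, g * q * g⁻¹ ∈ Q) {a : G}
    (ha : a⁻¹ * (g * a * g⁻¹) ∈ Q) : ∃ b, a⁻¹ * b ∈ Q ∧ g * b = b * g := by
  have : Finite (ConjAct G) := inferInstanceAs (Finite G)
  have h1 : PE r (ConjAct.toConjAct g) := hg.map ConjAct.toConjAct.toMonoidHom
  have h2 : ({b | a⁻¹ * b ∈ Q} : Set G).ncard = Nat.card Q := by
    rw [← Nat.card_coe_set_eq]
    exact Nat.card_congr ⟨fun b => ⟨a⁻¹ * b, b.2⟩, fun q => ⟨a * q, by simp⟩,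
      fun b => by simp, fun q => by simp⟩
  obtain ⟨b, hb, hf⟩ := exists_fixed_of_not_dvd_ncard hr _ h1.isPGroup {b | a⁻¹ * b ∈ Q}
    (zpowers_smul_mem fun b hb => by
      have := mul_mem ha (hn _ hb)
      change a⁻¹ * (g * b * g⁻¹) ∈ Q
      convert this using 1
      group) (h2 ▸ hQ)
  have := hf _ (mem_zpowers _)
  exact ⟨b, hb, mul_inv_eq_iff_eq_mul.1 this⟩

/-- A non-trivial `r`-group normalised by an `r`-element contains a non-trivial fixed element. -/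
theorem exists_comm_ne_one [Finite G] (hr : r.Prime) {g : G} (hg : PE r g) {A : Subgroup G}
    (hA : IsPGroup r A) (h1 : A ≠ ⊥) (hn : ∀ a ∈ A, g * a * g⁻¹ ∈ A) :
    ∃ a ∈ A, a ≠ 1 ∧ g * a = a * g := by
  have := Fact.mk hr
  have : Finite (ConjAct G) := inferInstanceAs (Finite G)
  have h1' : PE r (ConjAct.toConjAct g) := hg.map ConjAct.toConjAct.toMonoidHom
  have h2 : ((A : Set G) \ {1}).ncard + 1 = Nat.card A := by
    rw [Set.ncard_sdiff_singleton_add_one A.one_mem]; rfl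
  obtain ⟨n, hn'⟩ := IsPGroup.iff_card.1 hA
  have hn0 : n ≠ 0 := by
    rintro rfl
    exact h1 (card_eq_one.1 (by simpa using hn'))
  obtain ⟨b, hb, hf⟩ := exists_fixed_of_not_dvd_ncard hr _ h1'.isPGroup ((A : Set G) \ {1})
    (zpowers_smul_mem fun b hb => ⟨hn b hb.1, fun e => hb.2 (by
      have e' : g * b * g⁻¹ = 1 := e
      simpa using e')⟩) (fun hd => by
        have h3 : r ∣ ((A : Set G) \ {1}).ncard + 1 := by rw [h2, hn']; exact dvd_pow_self r hn0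
        exact hr.one_lt.ne' (Nat.dvd_one.1 ((Nat.dvd_add_right hd).1 h3)))
  exact ⟨b, hb.1, hb.2, mul_inv_eq_iff_eq_mul.1 (hf _ (mem_zpowers _))⟩

theorem Om_le (T : Subgroup G) : Om T ≤ T := fun _ h => h.1

theorem conj_mem_Om {T : Subgroup G} {k : G} (hk : k ∈ normalizer (T : Set G)) {a : G}
    (ha : a ∈ Om T) : k * a * k⁻¹ ∈ Om T := by
  refine ⟨mem_normalizer_conj hk ha.1, by rw [conj_mul, ha.2.1, mul_one, mul_inv_cancel],
    fun t ht => ?_⟩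
  have := ha.2.2 _ (mem_normalizer_conj' hk ht)
  calc t * (k * a * k⁻¹) = k * (k⁻¹ * t * k * a) * k⁻¹ := by group
    _ = _ := by rw [this]; group

theorem Om_ne_bot [Finite G] {T : Subgroup G} (hT : IsPGroup 2 T) (h1 : T ≠ ⊥) : Om T ≠ ⊥ := by
  have := Fact.mk Nat.prime_two
  have : Nontrivial T := (nontrivial_iff_ne_bot T).2 h1
  have := hT.center_nontrivial
  obtain ⟨⟨z, hz⟩, hz1⟩ := exists_ne (1 : center T)
  have hz2 : (z : G) ≠ 1 := fun e => hz1 (Subtype.ext (Subtype.ext e))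
  obtain ⟨j, hj⟩ := (PE.of_mem hT z.2).exists_pow Nat.prime_two hz2
  intro e
  have h3 : (z : G) ^ j ∈ Om T := ⟨pow_mem z.2 j, by rw [← pow_two, ← hj, pow_orderOf_eq_one],
    fun t ht => (Commute.pow_right (congrArg Subtype.val (mem_center_iff.1 hz ⟨t, ht⟩)) j).eq⟩
  rw [e, mem_bot] at h3
  rw [h3, orderOf_one] at hj
  omega

end Cfsg.Lib.Fr4
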